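import Groth.Prelude.Def_Red2
import Groth.Prelude.Def_AlgGrp
import Groth.Agent.Lib.GaPts.Basic
import Mathlib.AlgebraicGeometry.Sites.Fpqc
import Mathlib.AlgebraicGeometry.Pullbacks
import Mathlib.RingTheory.TensorProduct.Basic
import Mathlib.AlgebraicGeometry.Morphisms.Finite
import Mathlib.CategoryTheory.Monoidal.Cartesian.Grp

/-!
# Field valued points lift along extensions by the additive group
-/

set_option autoImplicit false
set_option linter.style.haveILetI false
set_option backward.isDefEq.respectTransparency.types false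

universe u

open CategoryTheory CategoryTheory.Limits MonoidalCategory CartesianMonoidalCategory MonObj AlgebraicGeometry
open scoped TensorProduct

noncomputable section

namespace Groth.Agent.GaExt14

section Contract

variable (K L : Type u) [Field K] [Field L] [Algebra K L]

/-- Insertion of `1` in the middle. -/
def m02 : L ⊗[K] L →ₐ[K] L ⊗[K] (L ⊗[K] L) :=
  Algebra.TensorProduct.map (AlgHom.id K L) Algebra.TensorProduct.includeRight

/-- Insertion of `1` at the end. -/
def m01 : L ⊗[K] L →ₐ[K] L ⊗[K] (L ⊗[K] L) :=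
  Algebra.TensorProduct.map (AlgHom.id K L) Algebra.TensorProduct.includeLeft

/-- Insertion of `1` at the start. -/
def m12 : L ⊗[K] L →ₐ[K] L ⊗[K] (L ⊗[K] L) :=
  Algebra.TensorProduct.includeRight

/-- Amitsur cocycles of the additive group over a field are coboundaries. -/
theorem exists_coboundary (c : L ⊗[K] L) (h : m12 K L c + m01 K L c = m02 K L c) :
    ∃ b : L, c = (1 : L) ⊗ₜ[K] b - b ⊗ₜ[K] (1 : L) := by
  obtain ⟨φ, hφ⟩ := LinearMap.exists_leftInverse_of_injective (Algebra.linearMap K L)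
    (LinearMap.ker_eq_bot.2 (algebraMap K L).injective)
  have hφ1 : φ 1 = 1 := by simpa using LinearMap.congr_fun hφ 1
  let Φ : ∀ (M : Type u) [AddCommGroup M] [Module K M], L ⊗[K] M →ₗ[K] M := fun M _ _ =>
    (TensorProduct.lid K M).toLinearMap ∘ₗ φ.rTensor M
  refine ⟨Φ L c, ?_⟩
  have h1 : Φ (L ⊗[K] L) (m12 K L c) = c := by simp [Φ, m12, hφ1]
  have h2 : ∀ x, Φ (L ⊗[K] L) (m01 K L x) = Φ L x ⊗ₜ[K] (1 : L) := fun x => by
    induction x using TensorProduct.induction_on with
    | zero => simp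
    | tmul a b => simp [Φ, m01, TensorProduct.smul_tmul']
    | add a b ha hb => simp only [map_add, ha, hb, TensorProduct.add_tmul]
  have h3 : ∀ x, Φ (L ⊗[K] L) (m02 K L x) = (1 : L) ⊗ₜ[K] Φ L x := fun x => by
    induction x using TensorProduct.induction_on with
    | zero => simp
    | tmul a b => simp [Φ, m02, TensorProduct.tmul_smul]
    | add a b ha hb => simp only [map_add, ha, hb, TensorProduct.tmul_add]
  have := congrArg (Φ (L ⊗[K] L)) h
  rw [map_add, h1, h2, h3] at this
  exact eq_sub_of_add_eq this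

end Contract

variable {S : Scheme.{u}} {G H : Over S} [GrpObj G] [IsCommMonObj G] [GrpObj H]
  (q : G ⟶ H) [IsMonHom q] (i : Red.Ga S ⟶ G) [IsMonHom i]

theorem eq_of_comp_ker_eq (hker : AlgGrp.IsKernel i q) {T : Over S} {t t' : T ⟶ Red.Ga S} (h : t ≫ i = t' ≫ i) :
    t = t' :=
  hker.hom_ext h (toUnit_unique _ _)

omit [IsMonHom i] in
theorem exists_ker_factor (hker : AlgGrp.IsKernel i q) {T : Over S} (c : T ⟶ G) (h : c ≫ q = 1) :
    ∃ t : T ⟶ Red.Ga S, t ≫ i = c :=
  ⟨hker.lift c (toUnit T) (h.trans (Hom.one_def)), hker.lift_fst _ _ _⟩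

/-- A field valued point lifts along an extension by the additive group once it lifts after an extension. -/
theorem exists_lift_of_ext (hker : AlgGrp.IsKernel i q) (K L : Type u) [Field K] [Field L] [Algebra K L]
    (sK : Spec (CommRingCat.of K) ⟶ S) (φ : Over.mk sK ⟶ H)
    (p : Over.mk (Spec.map (CommRingCat.ofHom (algebraMap K L)) ≫ sK) ⟶ G)
    (hp : p ≫ q = Over.homMk (Spec.map (CommRingCat.ofHom (algebraMap K L))) (by rfl) ≫ φ) :
    ∃ ψ : Over.mk sK ⟶ G, ψ ≫ q = φ := by
  let obj : ∀ (A : Type u) [CommRing A] [Algebra K A], Over S := fun A _ _ =>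
    Over.mk (Spec.map (CommRingCat.ofHom (algebraMap K A)) ≫ sK)
  let sp : ∀ {A B : Type u} [CommRing A] [Algebra K A] [CommRing B] [Algebra K B], (A →ₐ[K] B) → (obj B ⟶ obj A) :=
    fun {A B} _ _ _ _ α => Over.homMk (Spec.map (CommRingCat.ofHom α.toRingHom)) (by
      show Spec.map _ ≫ Spec.map _ ≫ sK = Spec.map _ ≫ sK
      rw [← Spec.map_comp_assoc, ← CommRingCat.ofHom_comp, AlgHom.toRingHom_eq_coe, AlgHom.comp_algebraMap])
  have sp_comp : ∀ {A B C : Type u} [CommRing A] [Algebra K A] [CommRing B] [Algebra K B] [CommRing C] [Algebra K C]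
      (α : A →ₐ[K] B) (β : B →ₐ[K] C), sp β ≫ sp α = sp (β.comp α) := fun α β => by
    ext1
    show Spec.map _ ≫ Spec.map _ = Spec.map _
    rw [← Spec.map_comp, ← CommRingCat.ofHom_comp]
    rfl
  let π : obj L ⟶ Over.mk sK := Over.homMk (Spec.map (CommRingCat.ofHom (algebraMap K L))) (by rfl)
  let a1 : obj (L ⊗[K] L) ⟶ obj L := sp Algebra.TensorProduct.includeLeft
  let a2 : obj (L ⊗[K] L) ⟶ obj L := sp Algebra.TensorProduct.includeRight
  have ha : a1 ≫ π = a2 ≫ π := by
    ext1
    show Spec.map _ ≫ Spec.map _ = Spec.map _ ≫ Spec.map _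
    rw [← Spec.map_comp, ← Spec.map_comp, ← CommRingCat.ofHom_comp, ← CommRingCat.ofHom_comp,
      AlgHom.toRingHom_eq_coe, AlgHom.comp_algebraMap, AlgHom.toRingHom_eq_coe, AlgHom.comp_algebraMap]
  let P : ∀ {T : Over S}, (T ⟶ obj L) → (T ⟶ G) := fun f => f ≫ p
  let cG : obj (L ⊗[K] L) ⟶ G := P a2 * (P a1)⁻¹
  obtain ⟨t, ht⟩ := exists_ker_factor q i hker cG (by
    simp only [cG, P, MonObj.mul_comp, GrpObj.inv_comp, Category.assoc, hp]
    rw [reassoc_of% ha, mul_inv_cancel])
  let val : ∀ {A : Type u} [CommRing A] [Algebra K A], (obj A ⟶ Red.Ga S) → A := fun {A} _ _ x =>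
    (Scheme.ΓSpecIso (CommRingCat.of A)).hom (Red.gaFn x)
  have val_sp : ∀ {A B : Type u} [CommRing A] [Algebra K A] [CommRing B] [Algebra K B] (α : A →ₐ[K] B)
      (x : obj A ⟶ Red.Ga S), val (sp α ≫ x) = α (val x) := fun {A B} _ _ _ _ α x => by
    show (Scheme.ΓSpecIso (CommRingCat.of B)).hom (Red.gaFn (sp α ≫ x)) = _
    rw [GaPts.gaFn_comp]
    exact congrArg (fun ψ => (ConcreteCategory.hom ψ) (Red.gaFn x))
      (Scheme.ΓSpecIso_naturality (CommRingCat.ofHom α.toRingHom))
  have val_mul : ∀ {A : Type u} [CommRing A] [Algebra K A] (x y : obj A ⟶ Red.Ga S), val (x * y) = val x + val y :=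
    fun x y => by simp only [val, GaPts.gaFn_mul, map_add]
  -- the cocycle identity
  have hcoc : m12 K L (val t) + m01 K L (val t) = m02 K L (val t) := by
    rw [← val_sp, ← val_sp, ← val_sp, ← val_mul]
    refine congrArg val (eq_of_comp_ker_eq q i hker ?_)
    rw [MonObj.mul_comp, Category.assoc, Category.assoc, Category.assoc, ht]
    simp only [cG, P, MonObj.comp_mul, GrpObj.comp_inv, ← Category.assoc, a1, a2, sp_comp]
    have e1 : (m12 K L).comp Algebra.TensorProduct.includeLeft = (m01 K L).comp Algebra.TensorProduct.includeRight := by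
      ext x; simp [m12, m01]
    have e2 : (m12 K L).comp Algebra.TensorProduct.includeRight = (m02 K L).comp Algebra.TensorProduct.includeRight := by
      ext x; simp [m12, m02]
    have e3 : (m01 K L).comp (Algebra.TensorProduct.includeLeft : L →ₐ[K] L ⊗[K] L) =
        (m02 K L).comp (Algebra.TensorProduct.includeLeft : L →ₐ[K] L ⊗[K] L) := by
      ext x; simp [m01, m02]
    rw [e1, e2, e3, ← _root_.mul_assoc, inv_mul_cancel_right]
  obtain ⟨b, hb⟩ := exists_coboundary K L (val t) hcoc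
  let β : obj L ⟶ Red.Ga S := GaPts.ptOfFn ((Scheme.ΓSpecIso (CommRingCat.of L)).inv b)
  have hβ : val β = b := by
    simp only [val, β, GaPts.gaFn_ptOfFn]
    exact congrArg (fun ψ => (ConcreteCategory.hom ψ) b) (Scheme.ΓSpecIso (CommRingCat.of L)).inv_hom_id
  have htβ : t * (a1 ≫ β) = a2 ≫ β := by
    apply GaPts.gaFn_injective
    apply ((Scheme.ΓSpecIso (CommRingCat.of (L ⊗[K] L))).commRingCatIsoToRingEquiv).injective
    show val (t * (a1 ≫ β)) = val (a2 ≫ β)
    rw [val_mul, val_sp, val_sp, hβ, hb, Algebra.TensorProduct.includeRight_apply]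
    exact sub_add_cancel _ _
  let p' : obj L ⟶ G := p * (β ≫ i)⁻¹
  have hp' : a1 ≫ p' = a2 ≫ p' := by
    simp only [p', MonObj.comp_mul, GrpObj.comp_inv]
    have h1 : a2 ≫ p = cG * (a1 ≫ p) := by simp [cG, P]
    rw [h1, ← Category.assoc a2, ← htβ, MonObj.mul_comp, ht, Category.assoc, mul_inv, _root_.mul_mul_mul_comm,
      mul_inv_cancel, _root_.one_mul]
  have hp'q : p' ≫ q = π ≫ φ := by
    have h1 : i ≫ q = 1 := hker.w.trans Hom.one_def.symm
    simp only [p', MonObj.mul_comp, GrpObj.inv_comp, Category.assoc, h1, MonObj.comp_one, inv_one, _root_.mul_one, hp, π]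
  haveI : Flat (Spec.map (CommRingCat.ofHom (algebraMap K L))) := by
    rw [HasRingHomProperty.Spec_iff (P := @Flat)]
    exact RingHom.flat_algebraMap_iff.2 inferInstance
  haveI : Surjective (Spec.map (CommRingCat.ofHom (algebraMap K L))) :=
    ⟨fun x => ⟨IsLocalRing.closedPoint L, Subsingleton.elim _ _⟩⟩
  let e := Spec.map (CommRingCat.ofHom (algebraMap K L))
  have hdesc : ∀ {Z : Scheme.{u}} (g₁ g₂ : Z ⟶ Spec (CommRingCat.of L)), g₁ ≫ e = g₂ ≫ e →
      g₁ ≫ p'.left = g₂ ≫ p'.left := by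
    intro Z g₁ g₂ hg
    let z : Z ⟶ Spec (CommRingCat.of (L ⊗[K] L)) := pullback.lift g₁ g₂ hg ≫ (pullbackSpecIso K L L).hom
    have h1 : z ≫ a1.left = g₁ := by
      show (pullback.lift g₁ g₂ hg ≫ (pullbackSpecIso K L L).hom) ≫ Spec.map _ = g₁
      rw [Category.assoc]
      erw [← pullbackSpecIso_inv_fst, Iso.hom_inv_id_assoc, pullback.lift_fst]
    have h2 : z ≫ a2.left = g₂ := by
      show (pullback.lift g₁ g₂ hg ≫ (pullbackSpecIso K L L).hom) ≫ Spec.map _ = g₂
      rw [Category.assoc]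
      erw [← pullbackSpecIso_inv_snd, Iso.hom_inv_id_assoc, pullback.lift_snd]
    calc g₁ ≫ p'.left = (z ≫ a1.left) ≫ p'.left := by rw [h1]
      _ = z ≫ (a1 ≫ p').left := Category.assoc _ _ _
      _ = z ≫ (a2 ≫ p').left := by rw [hp']
      _ = (z ≫ a2.left) ≫ p'.left := (Category.assoc _ _ _).symm
      _ = g₂ ≫ p'.left := by rw [h2]
  refine ⟨Over.homMk (EffectiveEpi.desc e p'.left hdesc) ?_, ?_⟩
  · rw [← cancel_epi e, EffectiveEpi.fac_assoc, Over.w p']
    rfl
  · ext1
    rw [← cancel_epi e]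
    simp only [Over.comp_left, Over.homMk_left, EffectiveEpi.fac_assoc]
    exact congrArg CommaMorphism.left hp'q

end Groth.Agent.GaExt14

end
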