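import Groth.Agent.Lib.GaExt14.Lift
import Mathlib.AlgebraicGeometry.AffineSpace
import Mathlib.AlgebraicGeometry.SpreadingOut
import Mathlib.AlgebraicGeometry.PullbackCarrier
import Mathlib.AlgebraicGeometry.Morphisms.UniversallyOpen
import Mathlib.AlgebraicGeometry.Morphisms.Smooth
import Mathlib.RingTheory.Jacobson.Ring

/-!
# Extensions of unirational groups by the additive group are unirational
-/

set_option autoImplicit false
set_option linter.style.haveILetI false
set_option backward.isDefEq.respectTransparency.types false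

universe u

open CategoryTheory CategoryTheory.Limits MonoidalCategory CartesianMonoidalCategory MonObj AlgebraicGeometry

noncomputable section

namespace Groth.Agent.GaExt14

variable {S : Scheme.{u}} {G H : Over S} [GrpObj G] [IsCommMonObj G] [GrpObj H]
  (q : G ⟶ H) [IsMonHom q] (i : Red.Ga S ⟶ G) [IsMonHom i]

/-- Field valued points lift. -/
theorem exists_lift_field [LocallyOfFiniteType q.left] [Surjective q.left] (hker : AlgGrp.IsKernel i q)
    (K : Type u) [Field K] (sK : Spec (CommRingCat.of K) ⟶ S) (φ : Over.mk sK ⟶ H) :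
    ∃ ψ : Over.mk sK ⟶ G, ψ ≫ q = φ := by
  let P := pullback q.left φ.left
  haveI : JacobsonSpace ↥(Over.mk sK).left := inferInstanceAs (JacobsonSpace ↥(Spec (CommRingCat.of K)))
  haveI : JacobsonSpace P := LocallyOfFiniteType.jacobsonSpace (pullback.snd q.left φ.left)
  obtain ⟨y, -, hy⟩ := nonempty_inter_closedPoints (X := P) (Z := Set.univ)
    ⟨((pullback.snd q.left φ.left).surjective (IsLocalRing.closedPoint K)).choose, trivial⟩
    isClosed_univ.isLocallyClosed
  haveI : IsClosedImmersion (P.fromSpecResidueField y) := isClosed_singleton_iff_isClosedImmersion.1 hy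
  obtain ⟨θ, hθ⟩ := Spec.map_surjective (P.fromSpecResidueField y ≫ pullback.snd q.left φ.left)
  letI : Algebra K (P.residueField y) := θ.hom.toAlgebra
  refine exists_lift_of_ext q i hker K (P.residueField y) sK φ
    (Over.homMk (P.fromSpecResidueField y ≫ pullback.fst q.left φ.left) ?_) ?_
  · show (_ ≫ _) ≫ G.hom = Spec.map θ ≫ sK
    rw [hθ, ← Over.w q, Category.assoc, Category.assoc, pullback.condition_assoc]
    exact congrArg (fun m => _ ≫ _ ≫ m) (Over.w φ)
  · ext1
    show (_ ≫ _) ≫ q.left = Spec.map θ ≫ φ.left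
    rw [hθ, Category.assoc, Category.assoc, pullback.condition]

/-- Unirationality spreads along extensions by the additive group. -/
theorem exists_dominant {κ : Type u} [Field κ] {G H : Over (Spec (CommRingCat.of κ))}
    [GrpObj G] [IsCommMonObj G] [GrpObj H] [LocallyOfFiniteType G.hom] [LocallyOfFiniteType H.hom]
    (q : G ⟶ H) [IsMonHom q] [Flat q.left] [Surjective q.left]
    (i : Red.Ga (Spec (CommRingCat.of κ)) ⟶ G) [IsMonHom i] (hker : AlgGrp.IsKernel i q)
    (n : ℕ) (V : (AffineSpace (ULift.{u} (Fin n)) (Spec (CommRingCat.of κ))).Opens)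
    (ψ : (V : Scheme.{u}) ⟶ H.left) (hV : (V : Set (AffineSpace (ULift.{u} (Fin n)) (Spec (CommRingCat.of κ)))).Nonempty)
    (hψd : DenseRange ψ)
    (hψ : ψ ≫ H.hom = V.ι ≫ (AffineSpace (ULift.{u} (Fin n)) (Spec (CommRingCat.of κ)) ↘ Spec (CommRingCat.of κ))) :
    ∃ (m : ℕ) (W : (AffineSpace (ULift.{u} (Fin m)) (Spec (CommRingCat.of κ))).Opens)
        (χ : (W : Scheme.{u}) ⟶ G.left),
      (W : Set (AffineSpace (ULift.{u} (Fin m)) (Spec (CommRingCat.of κ)))).Nonempty ∧ DenseRange χ ∧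
      χ ≫ G.hom = W.ι ≫ (AffineSpace (ULift.{u} (Fin m)) (Spec (CommRingCat.of κ)) ↘ Spec (CommRingCat.of κ)) := by
  let S := Spec (CommRingCat.of κ)
  let A := AffineSpace (ULift.{u} (Fin n)) S
  haveI : LocallyOfFiniteType q.left := by
    haveI : LocallyOfFiniteType (q.left ≫ H.hom) := by rw [Over.w q]; infer_instance
    exact locallyOfFiniteType_of_comp q.left H.hom
  haveI : IsLocallyNoetherian H.left := LocallyOfFiniteType.isLocallyNoetherian H.hom
  haveI : LocallyOfFinitePresentation q.left := inferInstance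
  haveI : IsIntegral A := isIntegral_of_isOpenImmersion (AffineSpace.SpecIso (ULift.{u} (Fin n)) (CommRingCat.of κ)).hom
  haveI : Nonempty V := ⟨⟨hV.choose, hV.choose_spec⟩⟩
  haveI : IsIntegral V.toScheme := isIntegral_of_isOpenImmersion V.ι
  let gen₀ := genericPoint V.toScheme
  let K := V.toScheme.functionField
  let sK : Spec (CommRingCat.of K) ⟶ S := V.toScheme.fromSpecStalk gen₀ ≫ V.ι ≫ (A ↘ S)
  let φ : Over.mk sK ⟶ H := Over.homMk (V.toScheme.fromSpecStalk gen₀ ≫ ψ) (by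
    show (_ ≫ ψ) ≫ H.hom = _
    rw [Category.assoc, hψ]
    rfl)
  obtain ⟨θ, hθ⟩ := exists_lift_field q i hker K sK φ
  obtain ⟨U₁, hgU₁, f₁, hf₁, hf₁'⟩ := spread_out_of_isGermInjective' (V.ι ≫ (A ↘ S)) G.hom θ.left (Over.w θ)
  -- compare with the given map
  obtain ⟨U, hU₁, hgU, hU⟩ : ∃ (U : V.toScheme.Opens) (_ : U ≤ U₁), gen₀ ∈ U ∧
      ∀ hU : U ≤ U₁, V.toScheme.homOfLE hU ≫ f₁ ≫ q.left = U.ι ≫ ψ := by
    have hcomp : U₁.fromSpecStalkOfMem gen₀ hgU₁ ≫ (f₁ ≫ q.left) = U₁.fromSpecStalkOfMem gen₀ hgU₁ ≫ (U₁.ι ≫ ψ) := by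
      rw [← Category.assoc, ← hf₁, Scheme.Opens.fromSpecStalkOfMem_ι_assoc]
      exact congrArg CommaMorphism.left hθ
    haveI : Nonempty U₁ := ⟨⟨gen₀, hgU₁⟩⟩
    haveI : IsIntegral U₁.toScheme := isIntegral_of_isOpenImmersion U₁.ι
    obtain ⟨U₂, hg₂, hU₂⟩ := spread_out_unique_of_isGermInjective' (x := (⟨gen₀, hgU₁⟩ : U₁.toScheme))
      (f₁ ≫ q.left) (U₁.ι ≫ ψ) (by
        simp only [Scheme.Opens.fromSpecStalkOfMem, Category.assoc] at hcomp
        exact (cancel_epi _).1 hcomp)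
    refine ⟨U₁.ι ''ᵁ U₂, U₁.ι_image_le _, ⟨⟨gen₀, hgU₁⟩, hg₂, rfl⟩, fun hU => ?_⟩
    rw [← cancel_epi (Scheme.Hom.isoImage U₁.ι U₂).hom]
    have h1 : (Scheme.Hom.isoImage U₁.ι U₂).hom ≫ V.toScheme.homOfLE hU = U₂.ι := by
      rw [← cancel_mono U₁.ι, Category.assoc, Scheme.homOfLE_ι, Scheme.Hom.isoImage_hom_ι]
    rw [← Category.assoc, h1, hU₂, Scheme.Hom.isoImage_hom_ι_assoc]
  let fU : U.toScheme ⟶ G.left := V.toScheme.homOfLE hU₁ ≫ f₁
  have hfUG : fU ≫ G.hom = U.ι ≫ V.ι ≫ (A ↘ S) := by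
    simp only [fU, Category.assoc, hf₁', Scheme.homOfLE_ι_assoc]
  have hfUq : fU ≫ q.left = U.ι ≫ ψ := by
    simp only [fU, Category.assoc]
    exact hU hU₁
  -- the new parameter space
  let A' := AffineSpace (ULift.{u} (Fin (n + 1))) S
  let pr : A' ⟶ A := AffineSpace.homOfVector (A' ↘ S) fun j => AffineSpace.coord S ⟨j.down.castSucc⟩
  let O : A.Opens := V.ι ''ᵁ U
  let W : A'.Opens := pr ⁻¹ᵁ O
  let ι' : U.toScheme ⟶ A := U.ι ≫ V.ι
  have hι' : Set.range ι' = (O : Set A) := by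
    simp only [ι', Scheme.Hom.comp_base, TopCat.coe_comp, Set.range_comp, Scheme.Opens.range_ι]
    rfl
  let w : W.toScheme ⟶ U.toScheme := IsOpenImmersion.lift ι' (W.ι ≫ pr) (by
    rintro _ ⟨z, rfl⟩
    rw [hι', Scheme.Hom.comp_apply]
    exact z.2)
  have hw : w ≫ ι' = W.ι ≫ pr := IsOpenImmersion.lift_fac _ _ _
  have hpr : pr ≫ (A ↘ S) = A' ↘ S := AffineSpace.homOfVector_over _ _
  let TW : Over S := Over.mk (W.ι ≫ (A' ↘ S))
  let g₀ : TW ⟶ G := Over.homMk (w ≫ fU) (by
    show (w ≫ fU) ≫ G.hom = W.ι ≫ (A' ↘ S)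
    have h := congrArg (· ≫ (A ↘ S)) hw
    simp only [ι', Category.assoc, hpr] at h
    rw [Category.assoc, hfUG]
    exact h)
  let t₀ : TW ⟶ Red.Ga S := GaPts.ptOfFn (W.ι.appTop (AffineSpace.coord S ⟨Fin.last n⟩))
  let χ : TW ⟶ G := (t₀ ≫ i) * g₀
  have hiq : i ≫ q = 1 := hker.w.trans Hom.one_def.symm
  -- every point over the image of `U` is hit
  have hkey : q.left ⁻¹' Set.range (U.ι ≫ ψ) ⊆ Set.range χ.left := by
    rintro a ⟨v, hv⟩
    rw [← hfUq] at hv
    obtain ⟨z, hz₁, hz₂⟩ := Scheme.Pullback.exists_preimage_pullback (f := q.left) (g := fU ≫ q.left) a v hv.symm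
    let P := pullback q.left (fU ≫ q.left)
    let Ω := P.residueField z
    let za : Spec Ω ⟶ G.left := P.fromSpecResidueField z ≫ pullback.fst q.left (fU ≫ q.left)
    let zv : Spec Ω ⟶ U.toScheme := P.fromSpecResidueField z ≫ pullback.snd q.left (fU ≫ q.left)
    have hzq : za ≫ q.left = zv ≫ fU ≫ q.left := by
      simp only [za, zv, Category.assoc, pullback.condition]
    have hzS : za ≫ G.hom = zv ≫ fU ≫ G.hom := by
      have := congrArg (· ≫ H.hom) hzq
      simpa only [Category.assoc, Over.w q] using this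
    let TZ : Over S := Over.mk (za ≫ G.hom)
    let ga : TZ ⟶ G := Over.homMk za rfl
    let gv : TZ ⟶ G := Over.homMk (zv ≫ fU) (by rw [Category.assoc]; exact hzS.symm)
    obtain ⟨t, ht⟩ := exists_ker_factor q i hker (ga * gv⁻¹) (by
      have : ga ≫ q = gv ≫ q := by
        ext1
        show za ≫ q.left = (zv ≫ fU) ≫ q.left
        exact hzq.trans (Category.assoc _ _ _).symm
      rw [MonObj.mul_comp, GrpObj.inv_comp, this, mul_inv_cancel])
    let vec : ULift.{u} (Fin (n + 1)) → Γ(Spec Ω, ⊤) := fun j =>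
      Fin.lastCases (Red.gaFn t) (fun l => (zv ≫ ι').appTop (AffineSpace.coord S ⟨l⟩)) j.down
    let γ : Spec Ω ⟶ A' := AffineSpace.homOfVector (za ≫ G.hom) vec
    have hγpr : γ ≫ pr = zv ≫ ι' := by
      apply AffineSpace.hom_ext
      · rw [Category.assoc, hpr, AffineSpace.homOfVector_over, hzS, hfUG]
        simp only [ι', Category.assoc]
        rfl
      · intro l
        simp only [pr, AffineSpace.comp_homOfVector, AffineSpace.homOfVector_appTop_coord, Function.comp_apply,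
          γ, vec]
        erw [AffineSpace.homOfVector_appTop_coord]
        simp only [Fin.lastCases_castSucc]
    have hrange : Set.range γ ⊆ Set.range W.ι := by
      rintro _ ⟨s, rfl⟩
      rw [Scheme.Opens.range_ι]
      show pr (γ s) ∈ O
      rw [← Scheme.Hom.comp_apply, hγpr, Scheme.Hom.comp_apply]
      exact hι'.subset ⟨_, rfl⟩
    let γW : Spec Ω ⟶ W.toScheme := IsOpenImmersion.lift W.ι γ hrange
    have hγW : γW ≫ W.ι = γ := IsOpenImmersion.lift_fac _ _ _
    let γT : TZ ⟶ TW := Over.homMk γW (by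
      show γW ≫ W.ι ≫ (A' ↘ S) = za ≫ G.hom
      rw [reassoc_of% hγW, AffineSpace.homOfVector_over])
    have h1 : γT ≫ t₀ = t := by
      apply GaPts.gaFn_injective
      show Red.gaFn (γT ≫ t₀) = Red.gaFn t
      rw [GaPts.gaFn_comp, GaPts.gaFn_ptOfFn, ← GmPts.appTop_comp_apply]
      show (γW ≫ W.ι).appTop _ = _
      rw [hγW, AffineSpace.homOfVector_appTop_coord]
      simp [vec]
    have h2 : γT ≫ g₀ = gv := by
      ext1
      show γW ≫ w ≫ fU = zv ≫ fU
      rw [← Category.assoc]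
      congr 1
      rw [← cancel_mono ι', Category.assoc, hw, reassoc_of% hγW, hγpr]
    have h3 : γT ≫ χ = ga := by
      rw [MonObj.comp_mul, ← Category.assoc, h1, h2, ht, inv_mul_cancel_right]
    refine ⟨γW (IsLocalRing.closedPoint Ω), ?_⟩
    have h4 := congrArg (fun m : TZ ⟶ G => m.left (IsLocalRing.closedPoint Ω)) h3
    simp only [Over.comp_left, Scheme.Hom.comp_apply] at h4
    refine h4.trans ?_
    show za _ = a
    rw [← hz₁]
    simp only [za, Scheme.Hom.comp_apply]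
    exact congrArg _ (P.fromSpecResidueField_apply z _)
  have hUd : Dense (U : Set V.toScheme) := U.2.dense ⟨gen₀, hgU⟩
  have hd : Dense (Set.range (U.ι ≫ ψ)) := by
    rw [Scheme.Hom.comp_base, TopCat.coe_comp, Set.range_comp, Scheme.Opens.range_ι]
    exact hψd.dense_image ψ.continuous hUd
  have hdense : DenseRange χ.left := (hd.preimage q.left.isOpenMap).mono hkey
  refine ⟨n + 1, W, χ.left, ?_, hdense, Over.w χ⟩
  obtain ⟨a, ha⟩ := q.left.surjective (ψ gen₀)
  obtain ⟨z, -⟩ := hkey (show a ∈ q.left ⁻¹' Set.range (U.ι ≫ ψ) from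
    ⟨⟨gen₀, hgU⟩, by rw [Scheme.Hom.comp_apply, ha]; rfl⟩)
  exact ⟨W.ι z, z.2⟩

end Groth.Agent.GaExt14

end
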